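import Groth.Prelude.Def_Exal2
import Mathlib

/-! Extensions by a module killed by an ideal, and completion. -/

set_option autoImplicit false
set_option linter.style.haveILetI false
set_option backward.isDefEq.respectTransparency false
set_option backward.isDefEq.respectTransparency.types false

universe u v

open Exal

namespace Groth.Agent.H9Exal

section

variable {A : Type u} {R L : Type v} [CommRing A] [CommRing R] [Algebra A R] [AddCommGroup L] [Module R L]

theorem proj_incl (X : Ext A R L) (z : L) : X.proj (X.incl z) = 0 := (X.isExtension.exact _).2 ⟨z, rfl⟩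

/-- A map of extensions is an equivalence. -/
noncomputable def equivOfHom {X Y : Ext A R L} (f : X.E →ₐ[A] Y.E) (hp : ∀ x, Y.proj (f x) = X.proj x)
    (hi : ∀ z, f (X.incl z) = Y.incl z) : X.Equiv Y where
  toAlgEquiv := AlgEquiv.ofBijective f ⟨(injective_iff_map_eq_zero f).2 fun x hx => by
      obtain ⟨z, rfl⟩ := (X.isExtension.exact x).1 (by rw [← hp, hx, map_zero])
      rw [hi, ← map_zero Y.incl] at hx
      rw [Y.isExtension.incl_injective hx, map_zero],
    fun y => by
      obtain ⟨x, hx⟩ := X.isExtension.proj_surjective (Y.proj y)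
      obtain ⟨z, hz⟩ := (Y.isExtension.exact (y - f x)).1 (by rw [map_sub, hp, hx, sub_self])
      exact ⟨x + X.incl z, by rw [map_add, hi, hz, add_sub_cancel]⟩⟩
  proj_apply := hp
  apply_incl := hi

/-- A power of the preimage of `m` meets the kernel trivially, uniformly in the extension. -/
theorem exists_pow [IsNoetherianRing R] (m : Ideal R) (hm : ∀ r ∈ m, ∀ z : L, r • z = 0) :
    ∃ c : ℕ, ∀ (X : Ext A R L), ∀ a ∈ (m.comap (X.proj : X.E →+* R)) ^ (c + 2), X.proj a = 0 → a = 0 := by
  classical
  obtain ⟨d, x, hx⟩ : ∃ (d : ℕ) (x : Fin d → R), Ideal.span (Set.range x) = m :=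
    (Submodule.fg_iff_exists_fin_generating_family.1 (IsNoetherian.noetherian m))
  -- relations of the Rees algebra
  let Φ : MvPolynomial (Fin d) R →ₐ[R] Polynomial R :=
    MvPolynomial.aeval (fun i => Polynomial.C (x i) * Polynomial.X)
  have hΦ : ∀ (F : MvPolynomial (Fin d) R) (n : ℕ),
      (Φ F).coeff n = MvPolynomial.eval x (MvPolynomial.homogeneousComponent n F) := by
    intro F n
    induction F using MvPolynomial.induction_on' with
    | monomial μ a =>
      have h1 : Φ (MvPolynomial.monomial μ a) =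
          Polynomial.C (MvPolynomial.eval x (MvPolynomial.monomial μ a)) * Polynomial.X ^ μ.degree := by
        simp only [Φ, MvPolynomial.aeval_monomial, MvPolynomial.eval_monomial, Finsupp.degree]
        rw [Finsupp.prod, Finsupp.prod, map_mul, map_prod]
        simp only [mul_pow, Finset.prod_mul_distrib, map_pow, Finset.prod_pow_eq_pow_sum]
        simp only [Polynomial.algebraMap_eq]
        exact (mul_assoc _ _ _).symm
      rw [h1, Polynomial.coeff_C_mul_X_pow,
        MvPolynomial.homogeneousComponent_of_mem (n := μ.degree) (MvPolynomial.isHomogeneous_monomial a rfl)]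
      split <;> simp
    | add p q hp hq => rw [map_add, Polynomial.coeff_add, hp, hq, map_add, map_add]
  let K : Ideal (MvPolynomial (Fin d) R) := RingHom.ker Φ
  have hK : ∀ F, F ∈ K ↔ ∀ n, MvPolynomial.eval x (MvPolynomial.homogeneousComponent n F) = 0 := fun F => by
    simp only [← hΦ]
    exact ⟨fun h n => by rw [show Φ F = 0 from h, Polynomial.coeff_zero],
      fun h => Polynomial.ext fun n => (h n).trans (Polynomial.coeff_zero n).symm⟩
  have hKhom : ∀ F ∈ K, ∀ n, MvPolynomial.homogeneousComponent n F ∈ K := fun F hF n => by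
    rw [hK]
    intro j
    rw [MvPolynomial.homogeneousComponent_of_mem (MvPolynomial.homogeneousComponent_mem n F)]
    split
    · exact (hK F).1 hF n
    · simp
  obtain ⟨S, hS⟩ := IsNoetherian.noetherian K
  let c := S.sup MvPolynomial.totalDegree
  refine ⟨c, fun X => ?_⟩
  obtain ⟨hsurj, hinj, hexact, hmul⟩ := X.isExtension
  let L : Ideal X.E := RingHom.ker (X.proj : X.E →+* R)
  have hL : ∀ a, a ∈ L ↔ X.proj a = 0 := fun a => Iff.rfl
  let mE : Ideal X.E := m.comap (X.proj : X.E →+* R)
  have hmL : ∀ a ∈ mE, ∀ l ∈ L, a * l = 0 := by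
    intro a ha l hl
    obtain ⟨z, rfl⟩ := (hexact l).1 hl
    rw [hmul, hm (X.proj a) ha, map_zero]
  choose y hy using fun i => hsurj (x i)
  have hymE : ∀ i, y i ∈ mE := fun i => by
    show X.proj (y i) ∈ m
    rw [hy, ← hx]
    exact Ideal.subset_span ⟨i, rfl⟩
  let N := c + 2
  let A : Ideal X.E := Ideal.span (Set.range y)
  have hAm : A ≤ mE := Ideal.span_le.2 (by rintro _ ⟨i, rfl⟩; exact hymE i)
  have hmA : mE ≤ A ⊔ L := fun a ha => by
    have h1 : X.proj a ∈ A.map (X.proj : X.E →+* R) := by
      rw [Ideal.map_span, ← Set.range_comp, show ((X.proj : X.E →+* R) ∘ y) = x from funext hy, hx]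
      exact ha
    obtain ⟨b, hb, hba⟩ := (Ideal.mem_map_iff_of_surjective (X.proj : X.E →+* R) hsurj).1 h1
    rw [show a = b + (a - b) by ring]
    exact add_mem (Ideal.mem_sup_left hb) (Ideal.mem_sup_right (show X.proj (a - b) = 0 by
      rw [map_sub, sub_eq_zero]; exact hba.symm))
  have hLm0 : mE * L = ⊥ := le_bot_iff.1 (Ideal.mul_le.2 fun a ha l hl => (Ideal.mem_bot).2 (hmL a ha l hl))
  have hpow : ∀ n, mE ^ (n + 2) ≤ A ^ (n + 2) := by
    intro n
    induction n with
    | zero =>
      have h1 : mE * mE ≤ (A ⊔ L) * mE := Ideal.mul_mono_left hmA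
      have h2 : mE * A ≤ (A ⊔ L) * A := Ideal.mul_mono_left hmA
      rw [pow_two, pow_two]
      rw [Ideal.sup_mul, mul_comm L, hLm0, sup_bot_eq, mul_comm A] at h1
      have h3 : L * A = ⊥ := le_bot_iff.1 (by rw [← hLm0, mul_comm mE]; exact Ideal.mul_mono_right hAm)
      rw [Ideal.sup_mul, h3, sup_bot_eq] at h2
      exact h1.trans h2
    | succ n ih =>
      rw [pow_succ, pow_succ A]
      refine (Ideal.mul_mono ih hmA).trans ?_
      rw [Ideal.mul_sup]
      refine sup_le le_rfl ?_
      refine le_trans ?_ bot_le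
      rw [← hLm0]
      exact Ideal.mul_mono_left ((Ideal.pow_le_self (by omega)).trans hAm)
  intro a ha ha0
  have haA : a ∈ A ^ N := hpow c ha
  obtain ⟨F, hF, hFa⟩ := (Ideal.mem_span_pow_iff_exists_isHomogeneous y a (n := N)).1 haA
  let φ : MvPolynomial (Fin d) X.E → X.E := fun G => MvPolynomial.eval y (MvPolynomial.homogeneousComponent N G)
  have hφadd : ∀ G H, φ (G + H) = φ G + φ H := fun G H => by simp [φ]
  have hFφ : φ F = a := by
    show MvPolynomial.eval y _ = a
    rw [MvPolynomial.homogeneousComponent_of_mem (show F ∈ MvPolynomial.homogeneousSubmodule _ _ N from hF), if_pos rfl, hFa]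
  let π : MvPolynomial (Fin d) X.E →+* MvPolynomial (Fin d) R := MvPolynomial.map (X.proj : X.E →+* R)
  have hπ : Function.Surjective π := MvPolynomial.map_surjective _ hsurj
  have hevπ : ∀ G, X.proj (MvPolynomial.eval y G) = MvPolynomial.eval x (π G) := fun G => by
    show (X.proj : X.E →+* R) (MvPolynomial.eval y G) = _
    rw [MvPolynomial.map_eval, show ((X.proj : X.E →+* R) ∘ y) = x from funext hy]
  have hπK : π F ∈ K := (hK _).2 fun n => by
    rw [MvPolynomial.homogeneousComponent_of_mem (n := N) (show π F ∈ MvPolynomial.homogeneousSubmodule _ _ N from hF.map _)]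
    split
    · rw [← hevπ, hFa, ha0]
    · simp
  -- polynomials with coefficients in `L`
  have hkerφ : ∀ D, π D = 0 → φ D = 0 := by
    intro D hD
    show MvPolynomial.eval y _ = 0
    rw [MvPolynomial.eval_eq]
    refine Finset.sum_eq_zero fun μ hμ => ?_
    rw [MvPolynomial.mem_support_iff, MvPolynomial.coeff_homogeneousComponent] at hμ
    have hdeg : μ.degree = N := by by_contra h; rw [if_neg h] at hμ; exact hμ rfl
    rw [MvPolynomial.coeff_homogeneousComponent, if_pos hdeg]
    obtain ⟨i, hi⟩ : ∃ i, i ∈ μ.support := by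
      by_contra h
      have : μ = 0 := Finsupp.support_eq_empty.1 (Finset.eq_empty_of_forall_notMem fun i hi => h ⟨i, hi⟩)
      rw [this, map_zero] at hdeg
      omega
    rw [← Finset.mul_prod_erase _ _ hi]
    have h0 : D.coeff μ * y i = 0 := by
      rw [mul_comm]
      refine hmL _ (hymE i) _ ?_
      rw [hL]
      have := congrArg (MvPolynomial.coeff μ) hD
      rwa [MvPolynomial.coeff_map, MvPolynomial.coeff_zero] at this
    obtain ⟨e, he⟩ := Nat.exists_eq_succ_of_ne_zero (Finsupp.mem_support_iff.1 hi)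
    rw [he, pow_succ']
    linear_combination (y i ^ e * ∏ j ∈ μ.support.erase i, y j ^ μ j) * h0
  let W : Ideal (MvPolynomial (Fin d) X.E) :=
    Ideal.span {H | ∃ j, j ≤ c ∧ H.IsHomogeneous j ∧ MvPolynomial.eval y H ∈ L ∧ π H ∈ K}
  have hWφ : ∀ H ∈ W, ∀ G, φ (G * H) = 0 := by
    intro H hH
    induction hH using Submodule.span_induction with
    | mem H hH =>
      obtain ⟨j, hj, hhom, hev, -⟩ := hH
      intro G
      obtain ⟨r, hr⟩ : ∃ r, N = r + 1 + j := ⟨N - j - 1, by omega⟩
      show MvPolynomial.eval y (MvPolynomial.homogeneousComponent N (G * H)) = 0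
      have hterm : ∀ i, MvPolynomial.eval y (MvPolynomial.homogeneousComponent N
          (MvPolynomial.homogeneousComponent i G * H)) = 0 := by
        intro i
        rw [MvPolynomial.homogeneousComponent_of_mem (n := i + j)
          (show _ ∈ MvPolynomial.homogeneousSubmodule _ _ (i + j) from (MvPolynomial.homogeneousComponent_isHomogeneous i G).mul hhom)]
        split
        · rename_i h
          rw [map_mul]
          refine hmL _ ?_ _ hev
          have : MvPolynomial.eval y (MvPolynomial.homogeneousComponent i G) ∈ A ^ i :=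
            (Ideal.mem_span_pow_iff_exists_isHomogeneous y _ (n := i)).2
              ⟨_, MvPolynomial.homogeneousComponent_isHomogeneous i G, rfl⟩
          exact hAm (Ideal.pow_le_self (by omega) this)
        · simp
      conv_lhs => rw [← MvPolynomial.sum_homogeneousComponent G, Finset.sum_mul, map_sum, map_sum]
      exact Finset.sum_eq_zero fun i _ => hterm i
    | zero => intro G; simp [φ]
    | add p q _ _ hp hq => intro G; rw [mul_add, hφadd, hp, hq, add_zero]
    | smul t p _ hp => intro G; rw [smul_eq_mul, ← mul_assoc]; exact hp _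
  have hKW : K ≤ W.map π := by
    rw [← hS, Submodule.span_le]
    intro G hG
    rw [← MvPolynomial.sum_homogeneousComponent G]
    refine Ideal.sum_mem _ fun j hj => ?_
    have hjc : j ≤ c := by
      have h1 := Finset.mem_range.1 hj
      have h2 : G.totalDegree ≤ c := Finset.le_sup hG
      omega
    have hGK : MvPolynomial.homogeneousComponent j G ∈ K := hKhom G (hS ▸ Submodule.subset_span hG) j
    obtain ⟨H₀, hH₀⟩ := hπ (MvPolynomial.homogeneousComponent j G)
    have hπH : π (MvPolynomial.homogeneousComponent j H₀) = MvPolynomial.homogeneousComponent j G := by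
      ext μ
      rw [MvPolynomial.coeff_map, MvPolynomial.coeff_homogeneousComponent, MvPolynomial.coeff_homogeneousComponent]
      have := congrArg (MvPolynomial.coeff μ) hH₀
      rw [MvPolynomial.coeff_map, MvPolynomial.coeff_homogeneousComponent] at this
      split
      · rename_i h; rwa [if_pos h] at this
      · rw [map_zero]
    rw [← hπH]
    refine Ideal.mem_map_of_mem π (Ideal.subset_span
      ⟨j, hjc, MvPolynomial.homogeneousComponent_isHomogeneous j H₀, ?_, by rw [hπH]; exact hGK⟩)
    rw [hL, hevπ, hπH]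
    have := (hK _).1 hGK j
    rwa [MvPolynomial.homogeneousComponent_of_mem (MvPolynomial.homogeneousComponent_mem j G), if_pos rfl] at this
  obtain ⟨H, hH, hHF⟩ := (Ideal.mem_map_iff_of_surjective π hπ).1 (hKW hπK)
  rw [← hFφ, show F = 1 * H + (F - H) by ring, hφadd, hWφ H hH 1, hkerφ (F - H) (by rw [map_sub, hHF, sub_self]), add_zero]


end

section Pullback

variable {A : Type u} {R S L : Type v} [CommRing A] [CommRing R] [CommRing S] [Algebra A R] [Algebra A S]
  [Algebra R S] [IsScalarTower A R S] [AddCommGroup L] [Module R L] [Module S L] [IsScalarTower R S L]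

theorem smul_map_eq_zero {m : Ideal R} (hm : ∀ r ∈ m, ∀ z : L, r • z = 0) {s : S}
    (hs : s ∈ m.map (algebraMap R S)) (z : L) : s • z = 0 := by
  induction hs using Submodule.span_induction generalizing z with
  | mem s hs =>
    obtain ⟨r, hr, rfl⟩ := hs
    rw [algebraMap_smul]
    exact hm r hr z
  | zero => exact zero_smul S z
  | add a b _ _ ha hb => rw [add_smul, ha, hb, add_zero]
  | smul t a _ ha => rw [smul_eq_mul, mul_comm, mul_smul]; exact ha _

/-- First component of the inverse image. -/
noncomputable def fst (X : Ext A S L) : (X.pullback R).E →ₐ[A] X.E :=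
  (AlgHom.fst A X.E R).comp (X.fiberProd R).val

theorem proj_fst (X : Ext A S L) (p : (X.pullback R).E) :
    X.proj (fst X p) = algebraMap R S ((X.pullback R).proj p) :=
  (AlgHom.mem_equalizer _ _ (Subtype.val p)).1 (Subtype.property p)

theorem fst_incl (X : Ext A S L) (z : L) : fst (R := R) X ((X.pullback R).incl z) = X.incl z := rfl

theorem pullback_ext (X : Ext A S L) {p q : (X.pullback R).E} (h₁ : fst X p = fst X q)
    (h₂ : (X.pullback R).proj p = (X.pullback R).proj q) : p = q :=
  Subtype.ext (Prod.ext h₁ h₂)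

theorem exists_mem_pow (X : Ext A R L) (m : Ideal R) (n : ℕ) {r : R} (hr : r ∈ m ^ n) :
    ∃ a ∈ (m.comap (X.proj : X.E →+* R)) ^ n, X.proj a = r := by
  rw [← Ideal.map_comap_of_surjective (X.proj : X.E →+* R) X.isExtension.proj_surjective m, ← Ideal.map_pow] at hr
  exact (Ideal.mem_map_iff_of_surjective (X.proj : X.E →+* R) X.isExtension.proj_surjective).1 hr

theorem proj_mem_pow (X : Ext A R L) (m : Ideal R) (n : ℕ) {a : X.E}
    (ha : a ∈ (m.comap (X.proj : X.E →+* R)) ^ n) : X.proj a ∈ m ^ n := by
  have := Ideal.mem_map_of_mem (X.proj : X.E →+* R) ha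
  rw [Ideal.map_pow, Ideal.map_comap_of_surjective (X.proj : X.E →+* R) X.isExtension.proj_surjective m] at this
  exact this

variable (m : Ideal R) (hm : ∀ r ∈ m, ∀ z : L, r • z = 0)
  (happ : ∀ (n : ℕ) (s : S), ∃ r : R, s - algebraMap R S r ∈ m.map (algebraMap R S) ^ n)
  (hcomap : ∀ (n : ℕ) (r : R), algebraMap R S r ∈ m.map (algebraMap R S) ^ n → r ∈ m ^ n)

include hm happ hcomap in
theorem equiv_of_pullback_equiv [IsNoetherianRing S] (X X' : Ext A S L)
    (e : (X.pullback R).Equiv (X'.pullback R)) : Nonempty (X.Equiv X') := by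
  let mS := m.map (algebraMap R S)
  obtain ⟨c, hc⟩ := exists_pow (A := A) (R := S) (L := L) mS (fun s hs z => smul_map_eq_zero hm hs z)
  let N := c + 2
  let M := (mS.comap (X.proj : X.E →+* S)) ^ N
  let M' := (mS.comap (X'.proj : X'.E →+* S)) ^ N
  let P := (X.pullback R)
  let P' := (X'.pullback R)
  have hkey : ∀ p : P.E, fst X p ∈ M → fst X' (e.toAlgEquiv p) ∈ M' := by
    intro p hp
    have hr : P.proj p ∈ m ^ N := by
      refine hcomap N _ ?_
      rw [← proj_fst]
      exact proj_mem_pow X mS N hp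
    obtain ⟨q, hq, hqr⟩ := exists_mem_pow P m N hr
    have hmem : ∀ (Z : Ext A S L) (q : (Z.pullback R).E),
        q ∈ (m.comap ((Z.pullback R).proj : (Z.pullback R).E →+* R)) ^ N →
        fst Z q ∈ (mS.comap (Z.proj : Z.E →+* S)) ^ N := by
      intro Z q hq
      have h1 : (m.comap ((Z.pullback R).proj : (Z.pullback R).E →+* R)).map
          (fst (R := R) Z).toRingHom ≤ mS.comap (Z.proj : Z.E →+* S) := Ideal.map_le_iff_le_comap.2 fun q hq => by
        show Z.proj (fst Z q) ∈ mS
        rw [proj_fst]
        exact Ideal.mem_map_of_mem _ hq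
      refine Ideal.pow_right_mono h1 N ?_
      rw [← Ideal.map_pow]
      exact Ideal.mem_map_of_mem _ hq
    have hpq : fst X p = fst X q := by
      have h1 : fst X p - fst X q ∈ M := sub_mem hp (hmem X q hq)
      exact sub_eq_zero.1 (hc X _ h1 (by rw [map_sub, proj_fst, proj_fst, hqr, sub_self]))
    rw [pullback_ext X hpq hqr.symm]
    refine hmem X' _ ?_
    have hle : (m.comap (P.proj : P.E →+* R)).map e.toAlgEquiv.toAlgHom.toRingHom ≤
        m.comap (P'.proj : P'.E →+* R) := Ideal.map_le_iff_le_comap.2 fun q hq => by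
      show P'.proj (e.toAlgEquiv q) ∈ m
      rw [e.proj_apply]
      exact hq
    refine Ideal.pow_right_mono hle N ?_
    rw [← Ideal.map_pow]
    exact Ideal.mem_map_of_mem _ hq
  let Rel : X.E → X'.E → Prop := fun x x' => X'.proj x' = X.proj x ∧
    ∃ p : P.E, x - fst X p ∈ M ∧ x' - fst X' (e.toAlgEquiv p) ∈ M'
  have hex : ∀ x, ∃ x', Rel x x' := by
    intro x
    obtain ⟨r, hr⟩ := happ N (X.proj x)
    obtain ⟨p₀, hp₀⟩ := P.isExtension.proj_surjective r
    have hd : X.proj (x - fst X p₀) ∈ mS ^ N := by rw [map_sub, proj_fst, hp₀]; exact hr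
    obtain ⟨a, ha, hax⟩ := exists_mem_pow X mS N hd
    obtain ⟨z, hz⟩ := (X.isExtension.exact (x - fst X p₀ - a)).1 (by rw [map_sub, hax, sub_self])
    let p := p₀ + P.incl z
    have hpa : x - fst X p = a := by
      rw [map_add, fst_incl, hz]; abel
    obtain ⟨a', ha', hax'⟩ := exists_mem_pow X' mS N (proj_mem_pow X mS N (show x - fst X p ∈ M by rw [hpa]; exact ha))
    refine ⟨fst X' (e.toAlgEquiv p) + a', ?_, p, by rw [hpa]; exact ha, by rw [add_sub_cancel_left]; exact ha'⟩
    rw [map_add, proj_fst, e.proj_apply, hax', map_sub, proj_fst, add_sub_cancel]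
  have huniq : ∀ x x' x'', Rel x x' → Rel x x'' → x' = x'' := by
    rintro x x' x'' ⟨h1, p, hp, hp'⟩ ⟨h2, q, hq, hq'⟩
    refine sub_eq_zero.1 (hc X' _ ?_ (by rw [map_sub, h1, h2, sub_self]))
    have h3 : fst X' (e.toAlgEquiv (p - q)) ∈ M' := hkey _ (by
      rw [map_sub]
      have : fst X p - fst X q = (x - fst X q) - (x - fst X p) := by abel
      rw [this]
      exact sub_mem hq hp)
    rw [map_sub, map_sub] at h3
    have : x' - x'' = (x' - fst X' (e.toAlgEquiv p)) - (x'' - fst X' (e.toAlgEquiv q)) +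
        (fst X' (e.toAlgEquiv p) - fst X' (e.toAlgEquiv q)) := by abel
    rw [this]
    exact add_mem (sub_mem hp' hq') h3
  choose f hf using hex
  have hfeq : ∀ x x', Rel x x' → f x = x' := fun x x' h => huniq x _ _ (hf x) h
  have hfmul : ∀ x y, f (x * y) = f x * f y := fun x y => by
    obtain ⟨h1, p, hp, hp'⟩ := hf x
    obtain ⟨h2, q, hq, hq'⟩ := hf y
    refine hfeq _ _ ⟨by rw [map_mul, map_mul, h1, h2], p * q, ?_, ?_⟩
    · rw [map_mul, show x * y - fst X p * fst X q = (x - fst X p) * y + fst X p * (y - fst X q) by ring]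
      exact add_mem (Ideal.mul_mem_right _ _ hp) (Ideal.mul_mem_left _ _ hq)
    · rw [map_mul, map_mul, show f x * f y - fst X' (e.toAlgEquiv p) * fst X' (e.toAlgEquiv q) =
        (f x - fst X' (e.toAlgEquiv p)) * f y + fst X' (e.toAlgEquiv p) * (f y - fst X' (e.toAlgEquiv q)) by ring]
      exact add_mem (Ideal.mul_mem_right _ _ hp') (Ideal.mul_mem_left _ _ hq')
  have hfalg : ∀ a : A, f (algebraMap A X.E a) = algebraMap A X'.E a := fun a =>
    hfeq _ _ ⟨by rw [AlgHom.commutes, AlgHom.commutes], algebraMap A P.E a,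
      by rw [AlgHom.commutes, sub_self]; exact zero_mem _,
      by rw [AlgEquiv.commutes, AlgHom.commutes, sub_self]; exact zero_mem _⟩
  have hfadd : ∀ x y, f (x + y) = f x + f y := fun x y => by
    obtain ⟨h1, p, hp, hp'⟩ := hf x
    obtain ⟨h2, q, hq, hq'⟩ := hf y
    refine hfeq _ _ ⟨by rw [map_add, map_add, h1, h2], p + q, ?_, ?_⟩
    · rw [map_add, add_sub_add_comm]; exact add_mem hp hq
    · rw [map_add, map_add, add_sub_add_comm]; exact add_mem hp' hq'
  let φ : X.E →ₐ[A] X'.E :=
    { toFun := f
      map_one' := by simpa using hfalg 1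
      map_zero' := by simpa using hfalg 0
      map_add' := hfadd
      map_mul' := hfmul
      commutes' := hfalg }
  refine ⟨equivOfHom φ (fun x => (hf x).1) fun z => ?_⟩
  refine hfeq _ _ ⟨by rw [proj_incl, proj_incl], P.incl z, ?_, ?_⟩
  · rw [fst_incl, sub_self]; exact zero_mem _
  · rw [e.apply_incl, fst_incl, sub_self]; exact zero_mem _

include hm happ hcomap in
theorem exists_pullback_equiv [IsNoetherianRing R] (Y : Ext A R L) :
    ∃ X : Ext A S L, Nonempty ((X.pullback R).Equiv Y) := by
  obtain ⟨c, hc⟩ := exists_pow (A := A) (R := R) (L := L) m hm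
  let N := c + 2
  let mS := m.map (algebraMap R S)
  let I : Ideal Y.E := (m.comap (Y.proj : Y.E →+* R)) ^ N
  let ψ : Y.E ⧸ I →ₐ[A] S ⧸ mS ^ N := Ideal.Quotient.liftₐ I
    (((Ideal.Quotient.mkₐ A (mS ^ N)).comp (IsScalarTower.toAlgHom A R S)).comp Y.proj) (fun a ha => by
      show Ideal.Quotient.mk (mS ^ N) (algebraMap R S (Y.proj a)) = 0
      rw [Ideal.Quotient.eq_zero_iff_mem, ← Ideal.map_pow]
      exact Ideal.mem_map_of_mem _ (proj_mem_pow Y m N ha))
  let E : Subalgebra A ((Y.E ⧸ I) × S) :=
    AlgHom.equalizer (ψ.comp (AlgHom.fst A (Y.E ⧸ I) S)) ((Ideal.Quotient.mkₐ A (mS ^ N)).comp (AlgHom.snd A (Y.E ⧸ I) S))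
  have hE : ∀ (y : Y.E) (s : S), ((Ideal.Quotient.mk I y, s) ∈ E ↔
      algebraMap R S (Y.proj y) - s ∈ mS ^ N) := fun y s =>
    (AlgHom.mem_equalizer _ _ _).trans Ideal.Quotient.eq
  have hE0 : ∀ z, (Ideal.Quotient.mk I (Y.incl z), (0 : S)) ∈ E := fun z => (hE _ _).2 (by
    rw [proj_incl, map_zero, sub_zero]; exact zero_mem _)
  let X : Ext A S L :=
    { E := E
      proj := (AlgHom.snd A (Y.E ⧸ I) S).comp E.val
      incl :=
        { toFun := fun z => ⟨(Ideal.Quotient.mk I (Y.incl z), 0), hE0 z⟩
          map_zero' := Subtype.ext (Prod.ext (by simp) rfl)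
          map_add' := fun z z' => Subtype.ext (Prod.ext (by simp) (by simp)) }
      isExtension :=
        { proj_surjective := fun s => by
            obtain ⟨r, hr⟩ := happ N s
            obtain ⟨y, hy⟩ := Y.isExtension.proj_surjective r
            exact ⟨⟨(Ideal.Quotient.mk I y, s), (hE _ _).2 (by rw [hy, ← neg_sub]; exact neg_mem hr)⟩, rfl⟩
          incl_injective := fun z z' h => by
            have h' := congrArg (fun x : E => x.1.1) h
            change Ideal.Quotient.mk I (Y.incl z) = Ideal.Quotient.mk I (Y.incl z') at h'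
            exact Y.isExtension.incl_injective (sub_eq_zero.1 (hc Y _ (Ideal.Quotient.eq.1 h')
              (by rw [map_sub, proj_incl, proj_incl, sub_self])))
          exact := by
            rintro ⟨⟨q, s⟩, hq⟩
            obtain ⟨y, rfl⟩ := Ideal.Quotient.mk_surjective q
            constructor
            · intro hs
              change s = 0 at hs
              subst hs
              have h1 := (hE _ _).1 hq
              rw [sub_zero] at h1
              obtain ⟨a, ha, hay⟩ := exists_mem_pow Y m N (hcomap N _ h1)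
              obtain ⟨z, hz⟩ := (Y.isExtension.exact (y - a)).1 (by rw [map_sub, hay, sub_self])
              refine ⟨z, Subtype.ext (Prod.ext ?_ rfl)⟩
              show Ideal.Quotient.mk I (Y.incl z) = Ideal.Quotient.mk I y
              rw [hz, map_sub, Ideal.Quotient.eq_zero_iff_mem.2 ha, sub_zero]
            · rintro ⟨z, hz⟩
              exact (congrArg (fun x : E => x.1.2) hz).symm
          mul_incl := by
            rintro ⟨⟨q, s⟩, hq⟩ z
            obtain ⟨y, rfl⟩ := Ideal.Quotient.mk_surjective q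
            refine Subtype.ext (Prod.ext ?_ (mul_zero s))
            show Ideal.Quotient.mk I y * Ideal.Quotient.mk I (Y.incl z) = Ideal.Quotient.mk I (Y.incl (s • z))
            have h1 : (algebraMap R S (Y.proj y) - s) • z = 0 :=
              smul_map_eq_zero hm (Ideal.pow_le_self (by omega) ((hE _ _).1 hq)) z
            rw [sub_smul, algebraMap_smul, sub_eq_zero] at h1
            rw [← map_mul, Y.isExtension.mul_incl, h1] } }
  refine ⟨X, ⟨?_⟩⟩
  have hmem : ∀ y : Y.E, (Ideal.Quotient.mk I y, algebraMap R S (Y.proj y)) ∈ E := fun y =>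
    (hE _ _).2 (by rw [sub_self]; exact zero_mem _)
  let f₁ : Y.E →ₐ[A] E := ((Ideal.Quotient.mkₐ A I).prod ((IsScalarTower.toAlgHom A R S).comp Y.proj)).codRestrict E hmem
  let f : Y.E →ₐ[A] (X.pullback R).E := (f₁.prod Y.proj).codRestrict (X.fiberProd R) fun y =>
    (AlgHom.mem_equalizer _ _ _).2 rfl
  refine (equivOfHom f (fun y => rfl) fun z => ?_).symm
  refine Subtype.ext (Prod.ext (Subtype.ext (Prod.ext rfl ?_)) (proj_incl Y z))
  show algebraMap R S (Y.proj (Y.incl z)) = 0
  rw [proj_incl, map_zero]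

end Pullback

section Completion

open IsLocalRing

variable (R : Type v) [CommRing R] [IsLocalRing R] [IsNoetherianRing R]

theorem mem_map_pow_iff (n : ℕ) (x : AdicCompletion (maximalIdeal R) R) :
    x ∈ (maximalIdeal R).map (algebraMap R (AdicCompletion (maximalIdeal R) R)) ^ n ↔
      AdicCompletion.eval (maximalIdeal R) R n x = 0 := by
  rw [← Ideal.map_pow, ← Submodule.restrictScalars_mem R, ← Ideal.smul_top_eq_map,
    AdicCompletion.pow_smul_top_eq_ker_eval (maximalIdeal R).fg_of_isNoetherianRing, LinearMap.mem_ker]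

theorem exists_sub_mem (n : ℕ) (x : AdicCompletion (maximalIdeal R) R) :
    ∃ r : R, x - algebraMap R (AdicCompletion (maximalIdeal R) R) r ∈
      (maximalIdeal R).map (algebraMap R (AdicCompletion (maximalIdeal R) R)) ^ n := by
  obtain ⟨r, hr⟩ := Submodule.Quotient.mk_surjective _ (AdicCompletion.eval (maximalIdeal R) R n x)
  refine ⟨r, (mem_map_pow_iff R n _).2 ?_⟩
  rw [map_sub, sub_eq_zero, ← hr]
  rfl

theorem mem_pow_of_algebraMap_mem (n : ℕ) (r : R)
    (h : algebraMap R (AdicCompletion (maximalIdeal R) R) r ∈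
      (maximalIdeal R).map (algebraMap R (AdicCompletion (maximalIdeal R) R)) ^ n) :
    r ∈ maximalIdeal R ^ n := by
  have h1 := (mem_map_pow_iff R n _).1 h
  have h2 : Submodule.Quotient.mk (p := (maximalIdeal R ^ n • ⊤ : Submodule R R)) r = 0 := h1
  simpa using (Submodule.Quotient.mk_eq_zero _).1 h2

end Completion

end Groth.Agent.H9Exal
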